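import Cfsg.Agent.Lib.H17.HeOrd.Order
import Cfsg.Agent.Lib.H17.HeN22.Orbits
import Cfsg.Agent.Lib.H17.Masks
import Cfsg.Agent.Lib.H17.HeOrd.ColACert
import Cfsg.Agent.Lib.H17.HeOrd.ColBCert
import Cfsg.Agent.Lib.H17.IwaPrim

set_option autoImplicit false
set_option maxRecDepth 100000

/-! # Simplicity of the presented group He (Iwasawa criterion on 8330 points; generated) -/

namespace Cfsg.Agent.Lib.H17.HeSimple

open Cfsg.Spor Cfsg.Agent.Lib.H17.CosetCert Cfsg.Agent.Lib.H17.CoxGlue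
  Cfsg.Agent.Lib.H17.HeGlue Cfsg.Agent.Lib.H17.Iwa Cfsg.Agent.Lib.H17.Masks
  Cfsg.Agent.Lib.H17.HeN22 MulAction
open scoped Pointwise commutatorElement

/-- the action on the points -/
noncomputable local instance actInst : MulAction G (Fin 8330) := MulAction.compHom (Fin 8330) φ

theorem smul_eq (g : G) (i : Fin 8330) : g • i = φ g i := rfl

instance pretrans : IsPretransitive G (Fin 8330) := (isPretransitive_iff_base z).mpr φ_trans

/-! ## Primitivity -/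

theorem orb0 : {i : Fin 8330 | ∃ h ∈ Subgroup.closure S', φ h ⟨8, by decide⟩ = i} =
    {i : Fin 8330 | tb omask0 i = true} :=
  orbit_eq_mask' 14 16384 8330 φ S' omask0 hr ⟨8, by decide⟩ sgT good_sgT S'_words words_S'
    obase0 oclosed0 oconn0

theorem orb1 : {i : Fin 8330 | ∃ h ∈ Subgroup.closure S', φ h ⟨1, by decide⟩ = i} =
    {i : Fin 8330 | tb omask1 i = true} :=
  orbit_eq_mask' 14 16384 8330 φ S' omask1 hr ⟨1, by decide⟩ sgT good_sgT S'_words words_S'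
    obase1 oclosed1 oconn1

theorem orb2 : {i : Fin 8330 | ∃ h ∈ Subgroup.closure S', φ h ⟨26, by decide⟩ = i} =
    {i : Fin 8330 | tb omask2 i = true} :=
  orbit_eq_mask' 14 16384 8330 φ S' omask2 hr ⟨26, by decide⟩ sgT good_sgT S'_words words_S'
    obase2 oclosed2 oconn2

theorem orb3 : {i : Fin 8330 | ∃ h ∈ Subgroup.closure S', φ h ⟨173, by decide⟩ = i} =
    {i : Fin 8330 | tb omask3 i = true} :=
  orbit_eq_mask' 14 16384 8330 φ S' omask3 hr ⟨173, by decide⟩ sgT good_sgT S'_words words_S'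
    obase3 oclosed3 oconn3

theorem orb4 : {i : Fin 8330 | ∃ h ∈ Subgroup.closure S', φ h ⟨37, by decide⟩ = i} =
    {i : Fin 8330 | tb omask4 i = true} :=
  orbit_eq_mask' 14 16384 8330 φ S' omask4 hr ⟨37, by decide⟩ sgT good_sgT S'_words words_S'
    obase4 oclosed4 oconn4

theorem orb5 : {i : Fin 8330 | ∃ h ∈ Subgroup.closure S', φ h ⟨168, by decide⟩ = i} =
    {i : Fin 8330 | tb omask5 i = true} :=
  orbit_eq_mask' 14 16384 8330 φ S' omask5 hr ⟨168, by decide⟩ sgT good_sgT S'_words words_S'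
    obase5 oclosed5 oconn5

theorem trans_of_orb (mask : ℕ) (p : Fin 8330)
    (h : {i : Fin 8330 | ∃ h ∈ Subgroup.closure S', φ h p = i} = {i : Fin 8330 | tb mask i = true})
    (x y : Fin 8330) (hx : tb mask x = true) (hy : tb mask y = true) :
    ∃ g : G, g • z = z ∧ g • x = y := by
  have hx' : x ∈ {i : Fin 8330 | ∃ h ∈ Subgroup.closure S', φ h p = i} := by rw [h]; exact hx
  have hy' : y ∈ {i : Fin 8330 | ∃ h ∈ Subgroup.closure S', φ h p = i} := by rw [h]; exact hy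
  obtain ⟨h1, hh1, rfl⟩ := hx'
  obtain ⟨h2, hh2, rfl⟩ := hy'
  refine ⟨h2 * h1⁻¹, ?_, ?_⟩
  · have : h2 * h1⁻¹ ∈ H := by
      rw [H_eq]
      exact mul_mem hh2 (inv_mem hh1)
    exact φ_H _ this
  · rw [smul_eq, map_mul, map_inv, Equiv.Perm.mul_apply]
    simp

/-- the orbit masks -/
def masks : Fin 6 → ℕ := ![omask0, omask1, omask2, omask3, omask4, omask5]

theorem cover_count : countBits (Nat.lor (Nat.lor (Nat.lor (Nat.lor (Nat.lor (Nat.lor (omask0) omask1) omask2) omask3) omask4) omask5) 1) 8330 0 = 8330 := by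
  decide +kernel

theorem disj0_1 : Nat.land omask0 omask1 = 0 := by
  decide +kernel

theorem disj0_2 : Nat.land omask0 omask2 = 0 := by
  decide +kernel

theorem disj0_3 : Nat.land omask0 omask3 = 0 := by
  decide +kernel

theorem disj0_4 : Nat.land omask0 omask4 = 0 := by
  decide +kernel

theorem disj0_5 : Nat.land omask0 omask5 = 0 := by
  decide +kernel

theorem disj1_0 : Nat.land omask1 omask0 = 0 := by
  decide +kernel

theorem disj1_2 : Nat.land omask1 omask2 = 0 := by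
  decide +kernel

theorem disj1_3 : Nat.land omask1 omask3 = 0 := by
  decide +kernel

theorem disj1_4 : Nat.land omask1 omask4 = 0 := by
  decide +kernel

theorem disj1_5 : Nat.land omask1 omask5 = 0 := by
  decide +kernel

theorem disj2_0 : Nat.land omask2 omask0 = 0 := by
  decide +kernel

theorem disj2_1 : Nat.land omask2 omask1 = 0 := by
  decide +kernel

theorem disj2_3 : Nat.land omask2 omask3 = 0 := by
  decide +kernel

theorem disj2_4 : Nat.land omask2 omask4 = 0 := by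
  decide +kernel

theorem disj2_5 : Nat.land omask2 omask5 = 0 := by
  decide +kernel

theorem disj3_0 : Nat.land omask3 omask0 = 0 := by
  decide +kernel

theorem disj3_1 : Nat.land omask3 omask1 = 0 := by
  decide +kernel

theorem disj3_2 : Nat.land omask3 omask2 = 0 := by
  decide +kernel

theorem disj3_4 : Nat.land omask3 omask4 = 0 := by
  decide +kernel

theorem disj3_5 : Nat.land omask3 omask5 = 0 := by
  decide +kernel

theorem disj4_0 : Nat.land omask4 omask0 = 0 := by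
  decide +kernel

theorem disj4_1 : Nat.land omask4 omask1 = 0 := by
  decide +kernel

theorem disj4_2 : Nat.land omask4 omask2 = 0 := by
  decide +kernel

theorem disj4_3 : Nat.land omask4 omask3 = 0 := by
  decide +kernel

theorem disj4_5 : Nat.land omask4 omask5 = 0 := by
  decide +kernel

theorem disj5_0 : Nat.land omask5 omask0 = 0 := by
  decide +kernel

theorem disj5_1 : Nat.land omask5 omask1 = 0 := by
  decide +kernel

theorem disj5_2 : Nat.land omask5 omask2 = 0 := by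
  decide +kernel

theorem disj5_3 : Nat.land omask5 omask3 = 0 := by
  decide +kernel

theorem disj5_4 : Nat.land omask5 omask4 = 0 := by
  decide +kernel

theorem zbit0 : tb omask0 0 = false := by
  decide +kernel

theorem zbit1 : tb omask1 0 = false := by
  decide +kernel

theorem zbit2 : tb omask2 0 = false := by
  decide +kernel

theorem zbit3 : tb omask3 0 = false := by
  decide +kernel

theorem zbit4 : tb omask4 0 = false := by
  decide +kernel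

theorem zbit5 : tb omask5 0 = false := by
  decide +kernel

theorem smul_val (L : List ℕ) (c : Fin 8330) :
    ((Cfsg.Agent.Lib.H17.HeOrd.e L • c : Fin 8330) : ℕ) = applyT 14 16384 (Cfsg.Agent.Lib.H17.HeOrd.tw L).reverse c := by
  rw [smul_eq, Cfsg.Agent.Lib.H17.HeOrd.φ_e, prod_apply 14 16384 8330 _ (fun t ht => good_tabs t (Cfsg.Agent.Lib.H17.HeOrd.tw_mem _ t ht))]

/-- the orbit sizes -/
def szs : Fin 6 → ℕ := ![105, 720, 840, 840, 1344, 4480]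

theorem bad_cases : ∀ J : Finset (Fin 6), J.Nonempty → J ≠ Finset.univ →
    (1 + ∑ j ∈ J, szs j) ∣ 8330 → J = {0, 1, 2} ∨ J = {0, 1, 3} := by
  decide

theorem refute0 : ∃ (g : G) (y : Fin 8330), (∃ j ∈ ({0, 1, 2} : Finset (Fin 6)), tb (masks j) ((g • z : Fin 8330) : ℕ) = true) ∧
    (∃ j ∈ ({0, 1, 2} : Finset (Fin 6)), tb (masks j) y = true) ∧ g • y ≠ z ∧
    ∀ j ∈ ({0, 1, 2} : Finset (Fin 6)), tb (masks j) ((g • y : Fin 8330) : ℕ) = false := by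
  refine ⟨Cfsg.Agent.Lib.H17.HeOrd.e [1], ⟨16, by decide⟩, ⟨1, by decide, ?_⟩, ⟨1, by decide, ?_⟩, ?_, ?_⟩
  · rw [smul_val]
    decide +kernel
  · decide +kernel
  · intro h
    have h2 := congrArg Fin.val h
    rw [smul_val] at h2
    revert h2
    decide +kernel
  · rw [smul_val]
    decide +kernel

theorem refute1 : ∃ (g : G) (y : Fin 8330), (∃ j ∈ ({0, 1, 3} : Finset (Fin 6)), tb (masks j) ((g • z : Fin 8330) : ℕ) = true) ∧
    (∃ j ∈ ({0, 1, 3} : Finset (Fin 6)), tb (masks j) y = true) ∧ g • y ≠ z ∧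
    ∀ j ∈ ({0, 1, 3} : Finset (Fin 6)), tb (masks j) ((g • y : Fin 8330) : ℕ) = false := by
  refine ⟨Cfsg.Agent.Lib.H17.HeOrd.e [1], ⟨10, by decide⟩, ⟨1, by decide, ?_⟩, ⟨0, by decide, ?_⟩, ?_, ?_⟩
  · rw [smul_val]
    decide +kernel
  · decide +kernel
  · intro h
    have h2 := congrArg Fin.val h
    rw [smul_val] at h2
    revert h2
    decide +kernel
  · rw [smul_val]
    decide +kernel

instance prim : IsPreprimitive G (Fin 8330) := by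
  apply Cfsg.Agent.Lib.H17.IwaPrim.prim_of_masks' z masks szs
  · intro j
    fin_cases j
    · exact ocount0
    · exact ocount1
    · exact ocount2
    · exact ocount3
    · exact ocount4
    · exact ocount5
  · intro i hi
    have h := all_of_count _ _ cover_count i i.2
    rw [tb_lor, tb_lor, tb_lor, tb_lor, tb_lor, tb_lor, tb_one] at h
    have hi0 : (i : ℕ) ≠ 0 := fun h0 => hi (Fin.ext h0)
    simp only [hi0, decide_false, Bool.or_false, Bool.or_eq_true] at h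
    rcases h with ((((h | h) | h) | h) | h) | h
    · exact ⟨0, h⟩
    · exact ⟨1, h⟩
    · exact ⟨2, h⟩
    · exact ⟨3, h⟩
    · exact ⟨4, h⟩
    · exact ⟨5, h⟩
  · intro i j hij
    fin_cases i <;> fin_cases j
    · exact absurd rfl hij
    · exact disj0_1
    · exact disj0_2
    · exact disj0_3
    · exact disj0_4
    · exact disj0_5
    · exact disj1_0
    · exact absurd rfl hij
    · exact disj1_2
    · exact disj1_3
    · exact disj1_4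
    · exact disj1_5
    · exact disj2_0
    · exact disj2_1
    · exact absurd rfl hij
    · exact disj2_3
    · exact disj2_4
    · exact disj2_5
    · exact disj3_0
    · exact disj3_1
    · exact disj3_2
    · exact absurd rfl hij
    · exact disj3_4
    · exact disj3_5
    · exact disj4_0
    · exact disj4_1
    · exact disj4_2
    · exact disj4_3
    · exact absurd rfl hij
    · exact disj4_5
    · exact disj5_0
    · exact disj5_1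
    · exact disj5_2
    · exact disj5_3
    · exact disj5_4
    · exact absurd rfl hij
  · intro j
    fin_cases j
    · exact zbit0
    · exact zbit1
    · exact zbit2
    · exact zbit3
    · exact zbit4
    · exact zbit5
  · intro j x y hx hy
    fin_cases j
    · exact trans_of_orb omask0 _ orb0 x y hx hy
    · exact trans_of_orb omask1 _ orb1 x y hx hy
    · exact trans_of_orb omask2 _ orb2 x y hx hy
    · exact trans_of_orb omask3 _ orb3 x y hx hy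
    · exact trans_of_orb omask4 _ orb4 x y hx hy
    · exact trans_of_orb omask5 _ orb5 x y hx hy
  · intro J h1 h2 h3
    rcases bad_cases J h1 h2 h3 with rfl | rfl
    · exact refute0
    · exact refute1

/-! ## The Iwasawa structure -/

/-- the word of the first generator of the normal four-group of the point stabiliser -/
def vW1 : List ℕ := [0]

/-- the word of the second generator of the normal four-group of the point stabiliser -/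
def vW2 : List ℕ := [2, 3, 2, 3, 2, 5, 3, 2, 3, 2, 5, 3, 2, 3, 5]

/-- the first generator -/
noncomputable abbrev v1 : G := Cfsg.Agent.Lib.H17.HeOrd.e vW1

/-- the second generator -/
noncomputable abbrev v2 : G := Cfsg.Agent.Lib.H17.HeOrd.e vW2

/-- the normal four-group of the point stabiliser -/
noncomputable abbrev A : Subgroup G := Subgroup.closure {v1, v2}

theorem v1_mem : v1 ∈ A := Subgroup.subset_closure (by simp)

theorem v2_mem : v2 ∈ A := Subgroup.subset_closure (by simp)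

theorem v12_mem : Cfsg.Agent.Lib.H17.HeOrd.e (vW1 ++ vW2) ∈ A := by
  rw [Cfsg.Agent.Lib.H17.HeOrd.e_append]
  exact mul_mem v1_mem v2_mem

theorem v_comm : v1 * v2 = v2 * v1 := by
  rw [← Cfsg.Agent.Lib.H17.HeOrd.e_append, ← Cfsg.Agent.Lib.H17.HeOrd.e_append]
  apply Cfsg.Agent.Lib.H17.HeOrd.e_eq_e
  decide +kernel

theorem comm_closure {K : Type*} [Group K] (k : Set K) (hk : ∀ x ∈ k, ∀ y ∈ k, x * y = y * x) :
    IsMulCommutative (Subgroup.closure k) := by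
  have step1 : Subgroup.closure k ≤ Subgroup.centralizer k :=
    (Subgroup.closure_le _).mpr
      (fun x hx => Subgroup.mem_centralizer_iff.mpr (fun y hy => hk y hy x hx))
  refine ⟨⟨fun a b => Subtype.ext ?_⟩⟩
  obtain ⟨a, ha⟩ := a
  obtain ⟨b, hb⟩ := b
  change a * b = b * a
  have hb' : ∀ x ∈ k, x * b = b * x := fun x hx => Subgroup.mem_centralizer_iff.mp (step1 hb) x hx
  have h2 : Subgroup.closure k ≤ Subgroup.centralizer {b} :=
    (Subgroup.closure_le _).mpr (fun x hx => Subgroup.mem_centralizer_iff.mpr (fun y hy => by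
      rw [Set.mem_singleton_iff] at hy
      subst hy
      exact (hb' x hx).symm))
  exact (Subgroup.mem_centralizer_iff.mp (h2 ha) b rfl).symm

theorem A_comm : IsMulCommutative A := by
  apply comm_closure
  intro x hx y hy
  simp only [Set.mem_insert_iff, Set.mem_singleton_iff] at hx hy
  rcases hx with rfl | rfl <;> rcases hy with rfl | rfl
  · rfl
  · exact v_comm
  · exact v_comm.symm
  · rfl

theorem conj_mem_closure {K : Type*} [Group K] (k : K) (s : Set K)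
    (h : ∀ x ∈ s, k * x * k⁻¹ ∈ Subgroup.closure s) :
    ∀ u ∈ Subgroup.closure s, k * u * k⁻¹ ∈ Subgroup.closure s := by
  have : Subgroup.closure s ≤ (Subgroup.closure s).comap (MulAut.conj k).toMonoidHom := by
    rw [Subgroup.closure_le]
    intro x hx
    exact h x hx
  intro u hu
  exact this hu

theorem conj_smul_closure_eq {K : Type*} [Group K] (k : K) (s : Set K)
    (h1 : ∀ x ∈ s, k * x * k⁻¹ ∈ Subgroup.closure s)
    (h2 : ∀ x ∈ s, k⁻¹ * x * k ∈ Subgroup.closure s) :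
    MulAut.conj k • Subgroup.closure s = Subgroup.closure s := by
  ext y
  rw [Subgroup.mem_pointwise_smul_iff_inv_smul_mem, MulAut.smul_def, ← map_inv, MulAut.conj_apply,
    inv_inv]
  constructor
  · intro hy
    have := conj_mem_closure k s h1 _ hy
    have e : k * (k⁻¹ * y * k) * k⁻¹ = y := by group
    rw [e] at this
    exact this
  · intro hy
    have h2' : ∀ x ∈ s, k⁻¹ * x * k⁻¹⁻¹ ∈ Subgroup.closure s := by
      intro x hx
      rw [inv_inv]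
      exact h2 x hx
    have := conj_mem_closure k⁻¹ s h2' _ hy
    rw [inv_inv] at this
    exact this

theorem norm_of (k : G) (h11 : k * v1 * k⁻¹ ∈ A) (h12 : k * v2 * k⁻¹ ∈ A)
    (h21 : k⁻¹ * v1 * k ∈ A) (h22 : k⁻¹ * v2 * k ∈ A) : MulAut.conj k • A = A := by
  apply conj_smul_closure_eq
  · intro x hx
    simp only [Set.mem_insert_iff, Set.mem_singleton_iff] at hx
    rcases hx with rfl | rfl
    · exact h11
    · exact h12
  · intro x hx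
    simp only [Set.mem_insert_iff, Set.mem_singleton_iff] at hx
    rcases hx with rfl | rfl
    · exact h21
    · exact h22

theorem cj0a1 : Cfsg.Agent.Lib.H17.HeOrd.e [0] * v1 * (Cfsg.Agent.Lib.H17.HeOrd.e [0])⁻¹ = Cfsg.Agent.Lib.H17.HeOrd.e vW1 := by
  rw [← Cfsg.Agent.Lib.H17.HeOrd.e_reverse, ← Cfsg.Agent.Lib.H17.HeOrd.e_append, ← Cfsg.Agent.Lib.H17.HeOrd.e_append]
  apply Cfsg.Agent.Lib.H17.HeOrd.e_eq_e
  decide +kernel

theorem cj0a2 : Cfsg.Agent.Lib.H17.HeOrd.e [0] * v2 * (Cfsg.Agent.Lib.H17.HeOrd.e [0])⁻¹ = Cfsg.Agent.Lib.H17.HeOrd.e vW2 := by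
  rw [← Cfsg.Agent.Lib.H17.HeOrd.e_reverse, ← Cfsg.Agent.Lib.H17.HeOrd.e_append, ← Cfsg.Agent.Lib.H17.HeOrd.e_append]
  apply Cfsg.Agent.Lib.H17.HeOrd.e_eq_e
  decide +kernel

theorem cj0b1 : (Cfsg.Agent.Lib.H17.HeOrd.e [0])⁻¹ * v1 * Cfsg.Agent.Lib.H17.HeOrd.e [0] = Cfsg.Agent.Lib.H17.HeOrd.e vW1 := by
  rw [← Cfsg.Agent.Lib.H17.HeOrd.e_reverse, ← Cfsg.Agent.Lib.H17.HeOrd.e_append, ← Cfsg.Agent.Lib.H17.HeOrd.e_append]
  apply Cfsg.Agent.Lib.H17.HeOrd.e_eq_e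
  decide +kernel

theorem cj0b2 : (Cfsg.Agent.Lib.H17.HeOrd.e [0])⁻¹ * v2 * Cfsg.Agent.Lib.H17.HeOrd.e [0] = Cfsg.Agent.Lib.H17.HeOrd.e vW2 := by
  rw [← Cfsg.Agent.Lib.H17.HeOrd.e_reverse, ← Cfsg.Agent.Lib.H17.HeOrd.e_append, ← Cfsg.Agent.Lib.H17.HeOrd.e_append]
  apply Cfsg.Agent.Lib.H17.HeOrd.e_eq_e
  decide +kernel

theorem norm0 : MulAut.conj (Cfsg.Agent.Lib.H17.HeOrd.e [0]) • A = A :=
  norm_of _ (by rw [cj0a1]; exact v1_mem) (by rw [cj0a2]; exact v2_mem) (by rw [cj0b1]; exact v1_mem) (by rw [cj0b2]; exact v2_mem)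

theorem cj1a1 : Cfsg.Agent.Lib.H17.HeOrd.e [2] * v1 * (Cfsg.Agent.Lib.H17.HeOrd.e [2])⁻¹ = Cfsg.Agent.Lib.H17.HeOrd.e vW1 := by
  rw [← Cfsg.Agent.Lib.H17.HeOrd.e_reverse, ← Cfsg.Agent.Lib.H17.HeOrd.e_append, ← Cfsg.Agent.Lib.H17.HeOrd.e_append]
  apply Cfsg.Agent.Lib.H17.HeOrd.e_eq_e
  decide +kernel

theorem cj1a2 : Cfsg.Agent.Lib.H17.HeOrd.e [2] * v2 * (Cfsg.Agent.Lib.H17.HeOrd.e [2])⁻¹ = Cfsg.Agent.Lib.H17.HeOrd.e vW2 := by
  rw [← Cfsg.Agent.Lib.H17.HeOrd.e_reverse, ← Cfsg.Agent.Lib.H17.HeOrd.e_append, ← Cfsg.Agent.Lib.H17.HeOrd.e_append]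
  apply Cfsg.Agent.Lib.H17.HeOrd.e_eq_e
  decide +kernel

theorem cj1b1 : (Cfsg.Agent.Lib.H17.HeOrd.e [2])⁻¹ * v1 * Cfsg.Agent.Lib.H17.HeOrd.e [2] = Cfsg.Agent.Lib.H17.HeOrd.e vW1 := by
  rw [← Cfsg.Agent.Lib.H17.HeOrd.e_reverse, ← Cfsg.Agent.Lib.H17.HeOrd.e_append, ← Cfsg.Agent.Lib.H17.HeOrd.e_append]
  apply Cfsg.Agent.Lib.H17.HeOrd.e_eq_e
  decide +kernel

theorem cj1b2 : (Cfsg.Agent.Lib.H17.HeOrd.e [2])⁻¹ * v2 * Cfsg.Agent.Lib.H17.HeOrd.e [2] = Cfsg.Agent.Lib.H17.HeOrd.e vW2 := by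
  rw [← Cfsg.Agent.Lib.H17.HeOrd.e_reverse, ← Cfsg.Agent.Lib.H17.HeOrd.e_append, ← Cfsg.Agent.Lib.H17.HeOrd.e_append]
  apply Cfsg.Agent.Lib.H17.HeOrd.e_eq_e
  decide +kernel

theorem norm1 : MulAut.conj (Cfsg.Agent.Lib.H17.HeOrd.e [2]) • A = A :=
  norm_of _ (by rw [cj1a1]; exact v1_mem) (by rw [cj1a2]; exact v2_mem) (by rw [cj1b1]; exact v1_mem) (by rw [cj1b2]; exact v2_mem)

theorem cj2a1 : Cfsg.Agent.Lib.H17.HeOrd.e [3] * v1 * (Cfsg.Agent.Lib.H17.HeOrd.e [3])⁻¹ = Cfsg.Agent.Lib.H17.HeOrd.e vW1 := by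
  rw [← Cfsg.Agent.Lib.H17.HeOrd.e_reverse, ← Cfsg.Agent.Lib.H17.HeOrd.e_append, ← Cfsg.Agent.Lib.H17.HeOrd.e_append]
  apply Cfsg.Agent.Lib.H17.HeOrd.e_eq_e
  decide +kernel

theorem cj2a2 : Cfsg.Agent.Lib.H17.HeOrd.e [3] * v2 * (Cfsg.Agent.Lib.H17.HeOrd.e [3])⁻¹ = Cfsg.Agent.Lib.H17.HeOrd.e vW2 := by
  rw [← Cfsg.Agent.Lib.H17.HeOrd.e_reverse, ← Cfsg.Agent.Lib.H17.HeOrd.e_append, ← Cfsg.Agent.Lib.H17.HeOrd.e_append]
  apply Cfsg.Agent.Lib.H17.HeOrd.e_eq_e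
  decide +kernel

theorem cj2b1 : (Cfsg.Agent.Lib.H17.HeOrd.e [3])⁻¹ * v1 * Cfsg.Agent.Lib.H17.HeOrd.e [3] = Cfsg.Agent.Lib.H17.HeOrd.e vW1 := by
  rw [← Cfsg.Agent.Lib.H17.HeOrd.e_reverse, ← Cfsg.Agent.Lib.H17.HeOrd.e_append, ← Cfsg.Agent.Lib.H17.HeOrd.e_append]
  apply Cfsg.Agent.Lib.H17.HeOrd.e_eq_e
  decide +kernel

theorem cj2b2 : (Cfsg.Agent.Lib.H17.HeOrd.e [3])⁻¹ * v2 * Cfsg.Agent.Lib.H17.HeOrd.e [3] = Cfsg.Agent.Lib.H17.HeOrd.e vW2 := by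
  rw [← Cfsg.Agent.Lib.H17.HeOrd.e_reverse, ← Cfsg.Agent.Lib.H17.HeOrd.e_append, ← Cfsg.Agent.Lib.H17.HeOrd.e_append]
  apply Cfsg.Agent.Lib.H17.HeOrd.e_eq_e
  decide +kernel

theorem norm2 : MulAut.conj (Cfsg.Agent.Lib.H17.HeOrd.e [3]) • A = A :=
  norm_of _ (by rw [cj2a1]; exact v1_mem) (by rw [cj2a2]; exact v2_mem) (by rw [cj2b1]; exact v1_mem) (by rw [cj2b2]; exact v2_mem)

theorem cj3a1 : Cfsg.Agent.Lib.H17.HeOrd.e [4] * v1 * (Cfsg.Agent.Lib.H17.HeOrd.e [4])⁻¹ = Cfsg.Agent.Lib.H17.HeOrd.e vW1 := by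
  rw [← Cfsg.Agent.Lib.H17.HeOrd.e_reverse, ← Cfsg.Agent.Lib.H17.HeOrd.e_append, ← Cfsg.Agent.Lib.H17.HeOrd.e_append]
  apply Cfsg.Agent.Lib.H17.HeOrd.e_eq_e
  decide +kernel

theorem cj3a2 : Cfsg.Agent.Lib.H17.HeOrd.e [4] * v2 * (Cfsg.Agent.Lib.H17.HeOrd.e [4])⁻¹ = Cfsg.Agent.Lib.H17.HeOrd.e vW2 := by
  rw [← Cfsg.Agent.Lib.H17.HeOrd.e_reverse, ← Cfsg.Agent.Lib.H17.HeOrd.e_append, ← Cfsg.Agent.Lib.H17.HeOrd.e_append]
  apply Cfsg.Agent.Lib.H17.HeOrd.e_eq_e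
  decide +kernel

theorem cj3b1 : (Cfsg.Agent.Lib.H17.HeOrd.e [4])⁻¹ * v1 * Cfsg.Agent.Lib.H17.HeOrd.e [4] = Cfsg.Agent.Lib.H17.HeOrd.e vW1 := by
  rw [← Cfsg.Agent.Lib.H17.HeOrd.e_reverse, ← Cfsg.Agent.Lib.H17.HeOrd.e_append, ← Cfsg.Agent.Lib.H17.HeOrd.e_append]
  apply Cfsg.Agent.Lib.H17.HeOrd.e_eq_e
  decide +kernel

theorem cj3b2 : (Cfsg.Agent.Lib.H17.HeOrd.e [4])⁻¹ * v2 * Cfsg.Agent.Lib.H17.HeOrd.e [4] = Cfsg.Agent.Lib.H17.HeOrd.e vW2 := by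
  rw [← Cfsg.Agent.Lib.H17.HeOrd.e_reverse, ← Cfsg.Agent.Lib.H17.HeOrd.e_append, ← Cfsg.Agent.Lib.H17.HeOrd.e_append]
  apply Cfsg.Agent.Lib.H17.HeOrd.e_eq_e
  decide +kernel

theorem norm3 : MulAut.conj (Cfsg.Agent.Lib.H17.HeOrd.e [4]) • A = A :=
  norm_of _ (by rw [cj3a1]; exact v1_mem) (by rw [cj3a2]; exact v2_mem) (by rw [cj3b1]; exact v1_mem) (by rw [cj3b2]; exact v2_mem)

theorem cj4a1 : Cfsg.Agent.Lib.H17.HeOrd.e [5] * v1 * (Cfsg.Agent.Lib.H17.HeOrd.e [5])⁻¹ = Cfsg.Agent.Lib.H17.HeOrd.e vW1 := by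
  rw [← Cfsg.Agent.Lib.H17.HeOrd.e_reverse, ← Cfsg.Agent.Lib.H17.HeOrd.e_append, ← Cfsg.Agent.Lib.H17.HeOrd.e_append]
  apply Cfsg.Agent.Lib.H17.HeOrd.e_eq_e
  decide +kernel

theorem cj4a2 : Cfsg.Agent.Lib.H17.HeOrd.e [5] * v2 * (Cfsg.Agent.Lib.H17.HeOrd.e [5])⁻¹ = Cfsg.Agent.Lib.H17.HeOrd.e vW2 := by
  rw [← Cfsg.Agent.Lib.H17.HeOrd.e_reverse, ← Cfsg.Agent.Lib.H17.HeOrd.e_append, ← Cfsg.Agent.Lib.H17.HeOrd.e_append]
  apply Cfsg.Agent.Lib.H17.HeOrd.e_eq_e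
  decide +kernel

theorem cj4b1 : (Cfsg.Agent.Lib.H17.HeOrd.e [5])⁻¹ * v1 * Cfsg.Agent.Lib.H17.HeOrd.e [5] = Cfsg.Agent.Lib.H17.HeOrd.e vW1 := by
  rw [← Cfsg.Agent.Lib.H17.HeOrd.e_reverse, ← Cfsg.Agent.Lib.H17.HeOrd.e_append, ← Cfsg.Agent.Lib.H17.HeOrd.e_append]
  apply Cfsg.Agent.Lib.H17.HeOrd.e_eq_e
  decide +kernel

theorem cj4b2 : (Cfsg.Agent.Lib.H17.HeOrd.e [5])⁻¹ * v2 * Cfsg.Agent.Lib.H17.HeOrd.e [5] = Cfsg.Agent.Lib.H17.HeOrd.e vW2 := by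
  rw [← Cfsg.Agent.Lib.H17.HeOrd.e_reverse, ← Cfsg.Agent.Lib.H17.HeOrd.e_append, ← Cfsg.Agent.Lib.H17.HeOrd.e_append]
  apply Cfsg.Agent.Lib.H17.HeOrd.e_eq_e
  decide +kernel

theorem norm4 : MulAut.conj (Cfsg.Agent.Lib.H17.HeOrd.e [5]) • A = A :=
  norm_of _ (by rw [cj4a1]; exact v1_mem) (by rw [cj4a2]; exact v2_mem) (by rw [cj4b1]; exact v1_mem) (by rw [cj4b2]; exact v2_mem)

theorem cj5a1 : Cfsg.Agent.Lib.H17.HeOrd.e [6] * v1 * (Cfsg.Agent.Lib.H17.HeOrd.e [6])⁻¹ = Cfsg.Agent.Lib.H17.HeOrd.e vW1 := by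
  rw [← Cfsg.Agent.Lib.H17.HeOrd.e_reverse, ← Cfsg.Agent.Lib.H17.HeOrd.e_append, ← Cfsg.Agent.Lib.H17.HeOrd.e_append]
  apply Cfsg.Agent.Lib.H17.HeOrd.e_eq_e
  decide +kernel

theorem cj5a2 : Cfsg.Agent.Lib.H17.HeOrd.e [6] * v2 * (Cfsg.Agent.Lib.H17.HeOrd.e [6])⁻¹ = Cfsg.Agent.Lib.H17.HeOrd.e vW2 := by
  rw [← Cfsg.Agent.Lib.H17.HeOrd.e_reverse, ← Cfsg.Agent.Lib.H17.HeOrd.e_append, ← Cfsg.Agent.Lib.H17.HeOrd.e_append]
  apply Cfsg.Agent.Lib.H17.HeOrd.e_eq_e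
  decide +kernel

theorem cj5b1 : (Cfsg.Agent.Lib.H17.HeOrd.e [6])⁻¹ * v1 * Cfsg.Agent.Lib.H17.HeOrd.e [6] = Cfsg.Agent.Lib.H17.HeOrd.e vW1 := by
  rw [← Cfsg.Agent.Lib.H17.HeOrd.e_reverse, ← Cfsg.Agent.Lib.H17.HeOrd.e_append, ← Cfsg.Agent.Lib.H17.HeOrd.e_append]
  apply Cfsg.Agent.Lib.H17.HeOrd.e_eq_e
  decide +kernel

theorem cj5b2 : (Cfsg.Agent.Lib.H17.HeOrd.e [6])⁻¹ * v2 * Cfsg.Agent.Lib.H17.HeOrd.e [6] = Cfsg.Agent.Lib.H17.HeOrd.e vW2 := by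
  rw [← Cfsg.Agent.Lib.H17.HeOrd.e_reverse, ← Cfsg.Agent.Lib.H17.HeOrd.e_append, ← Cfsg.Agent.Lib.H17.HeOrd.e_append]
  apply Cfsg.Agent.Lib.H17.HeOrd.e_eq_e
  decide +kernel

theorem norm5 : MulAut.conj (Cfsg.Agent.Lib.H17.HeOrd.e [6]) • A = A :=
  norm_of _ (by rw [cj5a1]; exact v1_mem) (by rw [cj5a2]; exact v2_mem) (by rw [cj5b1]; exact v1_mem) (by rw [cj5b2]; exact v2_mem)

theorem cj6a1 : Cfsg.Agent.Lib.H17.HeOrd.e [1, 0, 1] * v1 * (Cfsg.Agent.Lib.H17.HeOrd.e [1, 0, 1])⁻¹ = Cfsg.Agent.Lib.H17.HeOrd.e vW1 := by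
  rw [← Cfsg.Agent.Lib.H17.HeOrd.e_reverse, ← Cfsg.Agent.Lib.H17.HeOrd.e_append, ← Cfsg.Agent.Lib.H17.HeOrd.e_append]
  apply Cfsg.Agent.Lib.H17.HeOrd.e_eq_e
  decide +kernel

theorem cj6a2 : Cfsg.Agent.Lib.H17.HeOrd.e [1, 0, 1] * v2 * (Cfsg.Agent.Lib.H17.HeOrd.e [1, 0, 1])⁻¹ = Cfsg.Agent.Lib.H17.HeOrd.e (vW1 ++ vW2) := by
  rw [← Cfsg.Agent.Lib.H17.HeOrd.e_reverse, ← Cfsg.Agent.Lib.H17.HeOrd.e_append, ← Cfsg.Agent.Lib.H17.HeOrd.e_append]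
  apply Cfsg.Agent.Lib.H17.HeOrd.e_eq_e
  decide +kernel

theorem cj6b1 : (Cfsg.Agent.Lib.H17.HeOrd.e [1, 0, 1])⁻¹ * v1 * Cfsg.Agent.Lib.H17.HeOrd.e [1, 0, 1] = Cfsg.Agent.Lib.H17.HeOrd.e vW1 := by
  rw [← Cfsg.Agent.Lib.H17.HeOrd.e_reverse, ← Cfsg.Agent.Lib.H17.HeOrd.e_append, ← Cfsg.Agent.Lib.H17.HeOrd.e_append]
  apply Cfsg.Agent.Lib.H17.HeOrd.e_eq_e
  decide +kernel

theorem cj6b2 : (Cfsg.Agent.Lib.H17.HeOrd.e [1, 0, 1])⁻¹ * v2 * Cfsg.Agent.Lib.H17.HeOrd.e [1, 0, 1] = Cfsg.Agent.Lib.H17.HeOrd.e (vW1 ++ vW2) := by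
  rw [← Cfsg.Agent.Lib.H17.HeOrd.e_reverse, ← Cfsg.Agent.Lib.H17.HeOrd.e_append, ← Cfsg.Agent.Lib.H17.HeOrd.e_append]
  apply Cfsg.Agent.Lib.H17.HeOrd.e_eq_e
  decide +kernel

theorem norm6 : MulAut.conj (Cfsg.Agent.Lib.H17.HeOrd.e [1, 0, 1]) • A = A :=
  norm_of _ (by rw [cj6a1]; exact v1_mem) (by rw [cj6a2]; exact v12_mem) (by rw [cj6b1]; exact v1_mem) (by rw [cj6b2]; exact v12_mem)

theorem cj7a1 : Cfsg.Agent.Lib.H17.HeOrd.e [1, 2, 3, 4, 5, 3, 2, 1, 3, 2, 3, 2, 1, 4, 3, 2, 3, 4, 5, 3, 2, 1] * v1 * (Cfsg.Agent.Lib.H17.HeOrd.e [1, 2, 3, 4, 5, 3, 2, 1, 3, 2, 3, 2, 1, 4, 3, 2, 3, 4, 5, 3, 2, 1])⁻¹ = Cfsg.Agent.Lib.H17.HeOrd.e (vW1 ++ vW2) := by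
  rw [← Cfsg.Agent.Lib.H17.HeOrd.e_reverse, ← Cfsg.Agent.Lib.H17.HeOrd.e_append, ← Cfsg.Agent.Lib.H17.HeOrd.e_append]
  apply Cfsg.Agent.Lib.H17.HeOrd.e_eq_e
  decide +kernel

theorem cj7a2 : Cfsg.Agent.Lib.H17.HeOrd.e [1, 2, 3, 4, 5, 3, 2, 1, 3, 2, 3, 2, 1, 4, 3, 2, 3, 4, 5, 3, 2, 1] * v2 * (Cfsg.Agent.Lib.H17.HeOrd.e [1, 2, 3, 4, 5, 3, 2, 1, 3, 2, 3, 2, 1, 4, 3, 2, 3, 4, 5, 3, 2, 1])⁻¹ = Cfsg.Agent.Lib.H17.HeOrd.e vW1 := by
  rw [← Cfsg.Agent.Lib.H17.HeOrd.e_reverse, ← Cfsg.Agent.Lib.H17.HeOrd.e_append, ← Cfsg.Agent.Lib.H17.HeOrd.e_append]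
  apply Cfsg.Agent.Lib.H17.HeOrd.e_eq_e
  decide +kernel

theorem cj7b1 : (Cfsg.Agent.Lib.H17.HeOrd.e [1, 2, 3, 4, 5, 3, 2, 1, 3, 2, 3, 2, 1, 4, 3, 2, 3, 4, 5, 3, 2, 1])⁻¹ * v1 * Cfsg.Agent.Lib.H17.HeOrd.e [1, 2, 3, 4, 5, 3, 2, 1, 3, 2, 3, 2, 1, 4, 3, 2, 3, 4, 5, 3, 2, 1] = Cfsg.Agent.Lib.H17.HeOrd.e vW2 := by
  rw [← Cfsg.Agent.Lib.H17.HeOrd.e_reverse, ← Cfsg.Agent.Lib.H17.HeOrd.e_append, ← Cfsg.Agent.Lib.H17.HeOrd.e_append]
  apply Cfsg.Agent.Lib.H17.HeOrd.e_eq_e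
  decide +kernel

theorem cj7b2 : (Cfsg.Agent.Lib.H17.HeOrd.e [1, 2, 3, 4, 5, 3, 2, 1, 3, 2, 3, 2, 1, 4, 3, 2, 3, 4, 5, 3, 2, 1])⁻¹ * v2 * Cfsg.Agent.Lib.H17.HeOrd.e [1, 2, 3, 4, 5, 3, 2, 1, 3, 2, 3, 2, 1, 4, 3, 2, 3, 4, 5, 3, 2, 1] = Cfsg.Agent.Lib.H17.HeOrd.e (vW1 ++ vW2) := by
  rw [← Cfsg.Agent.Lib.H17.HeOrd.e_reverse, ← Cfsg.Agent.Lib.H17.HeOrd.e_append, ← Cfsg.Agent.Lib.H17.HeOrd.e_append]
  apply Cfsg.Agent.Lib.H17.HeOrd.e_eq_e
  decide +kernel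

theorem norm7 : MulAut.conj (Cfsg.Agent.Lib.H17.HeOrd.e [1, 2, 3, 4, 5, 3, 2, 1, 3, 2, 3, 2, 1, 4, 3, 2, 3, 4, 5, 3, 2, 1]) • A = A :=
  norm_of _ (by rw [cj7a1]; exact v12_mem) (by rw [cj7a2]; exact v1_mem) (by rw [cj7b1]; exact v2_mem) (by rw [cj7b2]; exact v12_mem)

theorem norm_S' : ∀ s ∈ S', MulAut.conj s • A = A := by
  rintro _ ⟨s, hs, rfl⟩
  simp only [S, Set.mem_insert_iff, Set.mem_singleton_iff] at hs
  rcases hs with rfl | rfl | rfl | rfl | rfl | rfl | rfl | rfl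
  · have h := norm0
    have he : Cfsg.Agent.Lib.H17.HeOrd.e [0] = PresentedGroup.mk rels (FreeGroup.mk sgL0) := by
      rw [mk_mk]; rfl
    rw [he, ← sg0_eq] at h
    exact h
  · have h := norm1
    have he : Cfsg.Agent.Lib.H17.HeOrd.e [2] = PresentedGroup.mk rels (FreeGroup.mk sgL1) := by
      rw [mk_mk]; rfl
    rw [he, ← sg1_eq] at h
    exact h
  · have h := norm2
    have he : Cfsg.Agent.Lib.H17.HeOrd.e [3] = PresentedGroup.mk rels (FreeGroup.mk sgL2) := by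
      rw [mk_mk]; rfl
    rw [he, ← sg2_eq] at h
    exact h
  · have h := norm3
    have he : Cfsg.Agent.Lib.H17.HeOrd.e [4] = PresentedGroup.mk rels (FreeGroup.mk sgL3) := by
      rw [mk_mk]; rfl
    rw [he, ← sg3_eq] at h
    exact h
  · have h := norm4
    have he : Cfsg.Agent.Lib.H17.HeOrd.e [5] = PresentedGroup.mk rels (FreeGroup.mk sgL4) := by
      rw [mk_mk]; rfl
    rw [he, ← sg4_eq] at h
    exact h
  · have h := norm5
    have he : Cfsg.Agent.Lib.H17.HeOrd.e [6] = PresentedGroup.mk rels (FreeGroup.mk sgL5) := by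
      rw [mk_mk]; rfl
    rw [he, ← sg5_eq] at h
    exact h
  · have h := norm6
    have he : Cfsg.Agent.Lib.H17.HeOrd.e [1, 0, 1] = PresentedGroup.mk rels (FreeGroup.mk sgL6) := by
      rw [mk_mk]; rfl
    rw [he, ← sg6_eq] at h
    exact h
  · have h := norm7
    have he : Cfsg.Agent.Lib.H17.HeOrd.e [1, 2, 3, 4, 5, 3, 2, 1, 3, 2, 3, 2, 1, 4, 3, 2, 3, 4, 5, 3, 2, 1] = PresentedGroup.mk rels (FreeGroup.mk sgL7) := by
      rw [mk_mk]; rfl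
    rw [he, ← sg7_eq] at h
    exact h

theorem norm_closure : ∀ k ∈ Subgroup.closure S', MulAut.conj k • A = A := by
  intro k hkH
  induction hkH using Subgroup.closure_induction with
  | mem s hs => exact norm_S' s hs
  | one => rw [map_one, one_smul]
  | mul a b _ _ iha ihb => rw [map_mul, mul_smul, ihb, iha]
  | inv a _ iha => rw [map_inv, inv_smul_eq_iff, iha]

theorem norm_stab : ∀ k : G, k • z = z → MulAut.conj k • A = A := by
  intro k hk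
  have hkH : k ∈ H := index_and_stab.2 k hk
  rw [H_eq] at hkH
  exact norm_closure k hkH

theorem prod_γo (L : List ℕ) : (L.map Cfsg.Agent.Lib.H17.HeOrd.γo).prod = Cfsg.Agent.Lib.H17.HeOrd.e (L.map Cfsg.Agent.Lib.H17.HeOrd.ι) := by
  unfold Cfsg.Agent.Lib.H17.HeOrd.e
  rw [List.map_map]
  rfl

theorem normalClosure_A : Subgroup.normalClosure (A : Set G) = ⊤ := by
  apply Cfsg.Agent.Lib.H17.HeOrd.ColA.collapse
  intro v hv
  have hv' : v = [3] := by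
    simpa [Cfsg.Agent.Lib.H17.HeOrd.ColA.extraW] using hv
  subst hv'
  rw [prod_γo]
  exact Subgroup.subset_normalClosure v1_mem

/-! ## Perfectness and simplicity -/

theorem perfect : commutator G = ⊤ := by
  apply Cfsg.Agent.Lib.H17.HeOrd.ColB.collapse
  intro v hv
  have h4 : ∀ v ∈ Cfsg.Agent.Lib.H17.HeOrd.ColB.extraW, v = [v.getD 0 0, v.getD 1 0, v.getD 0 0, v.getD 1 0] := by decide
  have h5 := h4 v hv
  generalize v.getD 0 0 = x at h5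
  generalize v.getD 1 0 = y at h5
  subst h5
  simp only [List.map_cons, List.map_nil, List.prod_cons, List.prod_nil, mul_one]
  have hx : (Cfsg.Agent.Lib.H17.HeOrd.γo x)⁻¹ = Cfsg.Agent.Lib.H17.HeOrd.γo x := inv_eq_of_mul_eq_one_left (Cfsg.Agent.Lib.H17.HeOrd.γo_mul_self x)
  have hy : (Cfsg.Agent.Lib.H17.HeOrd.γo y)⁻¹ = Cfsg.Agent.Lib.H17.HeOrd.γo y := inv_eq_of_mul_eq_one_left (Cfsg.Agent.Lib.H17.HeOrd.γo_mul_self y)
  have hc : Cfsg.Agent.Lib.H17.HeOrd.γo x * (Cfsg.Agent.Lib.H17.HeOrd.γo y * (Cfsg.Agent.Lib.H17.HeOrd.γo x * Cfsg.Agent.Lib.H17.HeOrd.γo y)) = ⁅Cfsg.Agent.Lib.H17.HeOrd.γo x, Cfsg.Agent.Lib.H17.HeOrd.γo y⁆ := by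
    rw [commutatorElement_def, hx, hy]
    simp only [mul_assoc]
  rw [hc, commutator_def]
  exact Subgroup.commutator_mem_commutator (Subgroup.mem_top _) (Subgroup.mem_top _)

theorem simple : IsSimpleGroup G := by
  have := Cfsg.Agent.Lib.H17.HeOrd.finite_G
  have : Nontrivial G := by
    rw [← Finite.one_lt_card_iff_nontrivial, Cfsg.Agent.Lib.H17.HeOrd.card_eq]
    norm_num
  exact IwasawaStructure.isSimpleGroup perfect
    (iwasawaOfNormal (X := Fin 8330) z A A_comm norm_stab normalClosure_A)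
    ⟨fun {g h} heq => Cfsg.Agent.Lib.H17.HeOrd.φ_injective (Equiv.ext heq)⟩

end Cfsg.Agent.Lib.H17.HeSimple
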