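import Cfsg.Agent.Lib.H17.HeOrd.Base

set_option autoImplicit false
set_option maxRecDepth 100000

/-! # Facts of the coset enumeration HeOrd ColA (generated) -/

namespace Cfsg.Agent.Lib.H17.HeOrd.ColA

open Cfsg.Spor Cfsg.Agent.Lib.H17.CosetCert Cfsg.Agent.Lib.H17.CoxGlue Cfsg.Agent.Lib.H17.HeGlue Cfsg.Agent.Lib.H17.SubChain Cfsg.Agent.Lib.H17.HeOrd

/-- the packed facts -/
def factTree : BT := .node (.leaf 0x180005000100003000080001000000007001dcb8770efdc3b772ea5d4b876f01e14138309a14008305a0b707100a03707efc5fb770019c31572a9dd33476af4deb566cf81f3526af59eb470015c29372691d1b1764ecddb2666f01e32264ed9db1752b9cb9d70e29c080700a9c01970221c41a732add639372b196ba074b09639672ac5c38270a4dbb706ea4db3606ca19aa604ed09a26366cc19a56648c12312628c152a72a85c9a070e3dc30e70a35c00270431c59e73ebcd79f644c0181f23ebd979e652b8571d35ab4169b658640d2b256645519352a45497350a04b286505453a724e54131534a944a2564a4c52242484c119334488110f52a84508e42680500d63e2c061e23c2ccd9b13468460c22e5dc39270c45c2907000dc08971470ce0a62e740e8a214718e091146d8d88234200c8832c58ca1431e3ccb9770e60cc0702e1d439662c18ca9512a19039462814c9931261483926240c83115220c82904200c438f61e09470241a08860201609850100624848131020440160e00c30650c00c28540a00c10230205c004308008180104000080)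 (.leaf 0x0)

/-- the fact with a given number -/
noncomputable def F (f : ℕ) : ℕ × ℕ × ℕ :=
  factOf factTree 1 1024 18 262144 7 128 f

/-- the words of the enumeration -/
def words : WT := .node (.node (.node (.node (.node (.node (.leaf [3, 6, 3, 6, 3, 6, 3, 6] true) (.leaf [6, 6] true)) (.node (.leaf [1, 4, 1, 4, 1, 4] true) (.nil))) (.node (.node (.leaf [6, 2, 6, 2] true) (.nil)) (.node (.leaf [0, 1, 4, 5, 0, 1, 4, 5, 0, 1, 4, 5, 0, 1, 4, 5] true) (.nil)))) (.node (.node (.node (.leaf [3, 4, 3, 4] true) (.nil)) (.node (.leaf [4, 5, 4, 5, 4, 5, 4, 5] true) (.nil))) (.node (.node (.leaf [0, 2, 0, 2] true) (.nil)) (.node (.leaf [2, 2] true) (.nil))))) (.node (.node (.node (.node (.leaf [3, 1, 3, 1] true) (.nil)) (.node (.leaf [2, 4, 2, 4] true) (.nil))) (.node (.node (.leaf [6, 5, 6, 5] true) (.nil)) (.node (.leaf [0, 0] true) (.nil)))) (.node (.node (.node (.leaf [6, 0, 6, 0, 6, 0] true) (.nil)) (.node (.leaf [2, 0, 6, 3, 0, 6, 3, 0, 6, 3] true) (.nil)))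 (.node (.node (.leaf [0, 5, 0, 5] true) (.nil)) (.node (.leaf [4, 4] true) (.nil)))))) (.node (.node (.node (.node (.node (.leaf [3, 0, 3, 0] true) (.leaf [] true)) (.node (.leaf [1, 5, 1, 5, 1, 5] true) (.nil))) (.node (.node (.leaf [6, 4, 6, 4] true) (.nil)) (.node (.leaf [3] true) (.nil)))) (.node (.node (.node (.leaf [3, 5, 3, 5] true) (.nil)) (.node (.leaf [2, 5, 4, 5, 4] true) (.nil))) (.node (.node (.leaf [0, 4, 0, 4] true) (.nil)) (.node (.leaf [3, 3] true) (.nil))))) (.node (.node (.node (.node (.leaf [3, 2, 3, 2] true) (.nil)) (.node (.leaf [2, 5, 2, 5] true) (.nil))) (.node (.node (.leaf [0, 1, 0, 1, 0, 1, 0, 1, 0, 1, 0, 1, 0, 1, 0, 1, 0, 1, 0, 1] true) (.nil)) (.node (.leaf [1, 1] true) (.nil)))) (.node (.node (.node (.leaf [6, 1, 6, 1] true) (.nil)) (.node (.leaf [3, 1, 0, 1, 0, 1, 0, 1, 0, 1, 0] true) (.nil))) (.node (.node (.leaf [1, 2, 1, 2, 1, 2] true) (.nil)) (.node (.leaf [5, 5] true) (.nil))))))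

/-- the additional relators -/
def extraW : List (List ℕ) := [[3]]

theorem words_spec : ∀ v ∈ words.toList, v.2 = true ∧ (v.1.map ι ∈ relW ∨ v.1 ∈ extraW) := by
  decide

end Cfsg.Agent.Lib.H17.HeOrd.ColA
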