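import Cfsg.Agent.Lib.H17.HeOrd.ColBFacts

set_option autoImplicit false
set_option maxRecDepth 100000

/-! # Steps of the coset enumeration HeOrd ColB, part 0 (generated) -/

namespace Cfsg.Agent.Lib.H17.HeOrd.ColB

open Cfsg.Spor Cfsg.Agent.Lib.H17.CosetCert Cfsg.Agent.Lib.H17.CoxGlue Cfsg.Agent.Lib.H17.HeGlue Cfsg.Agent.Lib.H17.SubChain Cfsg.Agent.Lib.H17.HeOrd

/-- steps 0 … -/
def steps0 : List ℕ := [0x0, 0x0, 0x0, 0x0, 0x0, 0x0, 0x0, 0x0, 0x100000700000000000100000200000000001a, 0x800000700000000000100000800000700000000000100000800000700000a000000000002000018, 0x800000100000000000700000800000100000000000700000800000100000300000000000b000004000018, 0x0, 0x200000b00000000000100000200000000000d, 0x0, 0x600000d00000000000100000200000000001f, 0xe00000d00000000000600000e000006000005000001000007000007, 0xe00000f00000000000000000300000100002f, 0x700000a000001000006000010000002000003000001000008, 0x300000600001000000000000300001100000800000a00000300000600001000000000000200000000000d000003000017, 0x800000a00001200000c00000000000400000900002f, 0xb00001300000100000200001200000a00000700000b00001300001200000a000007000009000003000001000010, 0x700000a000012000014000001000000000005000000000030, 0x0, 0x4000016000001000001000002000000000022,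 0x400001700001600000100000400001700000000000600000b000011, 0x17000018000001000000000003000002000030, 0x1900000400000500000500001500000b000013000003000004000002000016, 0x500001a00000500000400001900000000000500000200002c, 0x500000500001b000001000001000003000000000023, 0x500001c00000500001b00000100000500001c000000000007000006000012, 0x1500000000000000000200000000002f, 0x1b000001000000000002000000000030, 0x1b00001300000b000015000000000004000000000031, 0x1500000900001b000000000003000000000032, 0x1b000019000004000000000003000000000033, 0x1d000005000000000002000000000034, 0x15000010000006000000000003000000000035]

theorem chk0 : checkSteps F 7 16777216 words steps0 0 1 = some 12 := by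
  decide +kernel

theorem len0 : steps0.length = 37 := by
  decide +kernel

end Cfsg.Agent.Lib.H17.HeOrd.ColB
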