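import Cfsg.Agent.Lib.H17.HeOrd.Base
import Cfsg.Agent.Lib.H17.HeRel.RelZCert

set_option autoImplicit false
set_option maxRecDepth 100000

/-! # A relation of the presented group He that is not a consequence of the relators on the
letters `a, c, d, e, f, g` alone -/

namespace Cfsg.Agent.Lib.H17.HeOrd

/-- `cdcdedcdcdedcde = 1` -/
theorem extra_trivial (v : List ℕ) (hv : v ∈ [[0, 1, 0, 1, 2, 1, 0, 1, 0, 1, 2, 1, 0, 1, 2]]) :
    (v.map γo).prod = 1 := by
  rw [List.mem_singleton] at hv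
  subst hv
  exact Cfsg.Agent.Lib.H17.HeRel.RelZ.relations [2, 3, 2, 3, 4, 3, 2, 3, 2, 3, 4, 3, 2, 3, 4]
    (by simp [Cfsg.Agent.Lib.H17.HeRel.RelZ.relWords])

end Cfsg.Agent.Lib.H17.HeOrd
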