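import Cfsg.Agent.Lib.H17.HeOrd.Lv7StepsA
import Cfsg.Agent.Lib.H17.HeOrd.Lv7StepsB
import Cfsg.Agent.Lib.H17.HeOrd.Lv7StepsC
import Cfsg.Agent.Lib.H17.HeOrd.Lv7StepsD
import Cfsg.Agent.Lib.H17.HeOrd.Lv7StepsE
import Cfsg.Agent.Lib.H17.HeOrd.Lv7StepsF
import Cfsg.Agent.Lib.H17.HeOrd.Lv7StepsG
import Cfsg.Agent.Lib.H17.HeOrd.Lv7StepsH
import Cfsg.Agent.Lib.H17.HeOrd.Lv7StepsI
import Cfsg.Agent.Lib.H17.HeOrd.Lv7Rows

set_option autoImplicit false
set_option maxRecDepth 100000

/-! # Bound for the relative index, HeOrd Lv7 (generated) -/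

namespace Cfsg.Agent.Lib.H17.HeOrd.Lv7

open Cfsg.Spor Cfsg.Agent.Lib.H17.CosetCert Cfsg.Agent.Lib.H17.CoxGlue Cfsg.Agent.Lib.H17.HeGlue Cfsg.Agent.Lib.H17.SubChain Cfsg.Agent.Lib.H17.HeOrd

theorem bound : Bound words 7 49980 := by
  intro G' _ Q' _ _ γ' hinv q0 hOK hgen
  have h0 := inv_zero F 7 γ' q0
  have h1 := checkSteps_sound F 7 16777216 γ' hinv q0 words hOK steps0 0 1 703 h0 chk0
  rw [len0] at h1
  have h2 := checkSteps_sound F 7 16777216 γ' hinv q0 words hOK steps1 2000 703 1393 h1 chk1
  rw [len1] at h2
  have h3 := checkSteps_sound F 7 16777216 γ' hinv q0 words hOK steps2 4000 1393 2114 h2 chk2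
  rw [len2] at h3
  have h4 := checkSteps_sound F 7 16777216 γ' hinv q0 words hOK steps3 6000 2114 2823 h3 chk3
  rw [len3] at h4
  have h5 := checkSteps_sound F 7 16777216 γ' hinv q0 words hOK steps4 8000 2823 3600 h4 chk4
  rw [len4] at h5
  have h6 := checkSteps_sound F 7 16777216 γ' hinv q0 words hOK steps5 10000 3600 4289 h5 chk5
  rw [len5] at h6
  have h7 := checkSteps_sound F 7 16777216 γ' hinv q0 words hOK steps6 12000 4289 5020 h6 chk6
  rw [len6] at h7
  have h8 := checkSteps_sound F 7 16777216 γ' hinv q0 words hOK steps7 14000 5020 5778 h7 chk7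
  rw [len7] at h8
  have h9 := checkSteps_sound F 7 16777216 γ' hinv q0 words hOK steps8 16000 5778 6377 h8 chk8
  rw [len8] at h9
  have h10 := checkSteps_sound F 7 16777216 γ' hinv q0 words hOK steps9 18000 6377 7030 h9 chk9
  rw [len9] at h10
  have h11 := checkSteps_sound F 7 16777216 γ' hinv q0 words hOK steps10 20000 7030 7675 h10 chk10
  rw [len10] at h11
  have h12 := checkSteps_sound F 7 16777216 γ' hinv q0 words hOK steps11 22000 7675 8447 h11 chk11
  rw [len11] at h12
  have h13 := checkSteps_sound F 7 16777216 γ' hinv q0 words hOK steps12 24000 8447 9136 h12 chk12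
  rw [len12] at h13
  have h14 := checkSteps_sound F 7 16777216 γ' hinv q0 words hOK steps13 26000 9136 9819 h13 chk13
  rw [len13] at h14
  have h15 := checkSteps_sound F 7 16777216 γ' hinv q0 words hOK steps14 28000 9819 10376 h14 chk14
  rw [len14] at h15
  have h16 := checkSteps_sound F 7 16777216 γ' hinv q0 words hOK steps15 30000 10376 10994 h15 chk15
  rw [len15] at h16
  have h17 := checkSteps_sound F 7 16777216 γ' hinv q0 words hOK steps16 32000 10994 11670 h16 chk16
  rw [len16] at h17
  have h18 := checkSteps_sound F 7 16777216 γ' hinv q0 words hOK steps17 34000 11670 12326 h17 chk17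
  rw [len17] at h18
  have h19 := checkSteps_sound F 7 16777216 γ' hinv q0 words hOK steps18 36000 12326 13047 h18 chk18
  rw [len18] at h19
  have h20 := checkSteps_sound F 7 16777216 γ' hinv q0 words hOK steps19 38000 13047 13821 h19 chk19
  rw [len19] at h20
  have h21 := checkSteps_sound F 7 16777216 γ' hinv q0 words hOK steps20 40000 13821 14552 h20 chk20
  rw [len20] at h21
  have h22 := checkSteps_sound F 7 16777216 γ' hinv q0 words hOK steps21 42000 14552 15138 h21 chk21
  rw [len21] at h22
  have h23 := checkSteps_sound F 7 16777216 γ' hinv q0 words hOK steps22 44000 15138 15835 h22 chk22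
  rw [len22] at h23
  have h24 := checkSteps_sound F 7 16777216 γ' hinv q0 words hOK steps23 46000 15835 16474 h23 chk23
  rw [len23] at h24
  have h25 := checkSteps_sound F 7 16777216 γ' hinv q0 words hOK steps24 48000 16474 17119 h24 chk24
  rw [len24] at h25
  have h26 := checkSteps_sound F 7 16777216 γ' hinv q0 words hOK steps25 50000 17119 17800 h25 chk25
  rw [len25] at h26
  have h27 := checkSteps_sound F 7 16777216 γ' hinv q0 words hOK steps26 52000 17800 18494 h26 chk26
  rw [len26] at h27
  have h28 := checkSteps_sound F 7 16777216 γ' hinv q0 words hOK steps27 54000 18494 19134 h27 chk27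
  rw [len27] at h28
  have h29 := checkSteps_sound F 7 16777216 γ' hinv q0 words hOK steps28 56000 19134 19795 h28 chk28
  rw [len28] at h29
  have h30 := checkSteps_sound F 7 16777216 γ' hinv q0 words hOK steps29 58000 19795 20496 h29 chk29
  rw [len29] at h30
  have h31 := checkSteps_sound F 7 16777216 γ' hinv q0 words hOK steps30 60000 20496 21174 h30 chk30
  rw [len30] at h31
  have h32 := checkSteps_sound F 7 16777216 γ' hinv q0 words hOK steps31 62000 21174 21835 h31 chk31
  rw [len31] at h32
  have h33 := checkSteps_sound F 7 16777216 γ' hinv q0 words hOK steps32 64000 21835 22512 h32 chk32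
  rw [len32] at h33
  have h34 := checkSteps_sound F 7 16777216 γ' hinv q0 words hOK steps33 66000 22512 23085 h33 chk33
  rw [len33] at h34
  have h35 := checkSteps_sound F 7 16777216 γ' hinv q0 words hOK steps34 68000 23085 23594 h34 chk34
  rw [len34] at h35
  have h36 := checkSteps_sound F 7 16777216 γ' hinv q0 words hOK steps35 70000 23594 24214 h35 chk35
  rw [len35] at h36
  have h37 := checkSteps_sound F 7 16777216 γ' hinv q0 words hOK steps36 72000 24214 24794 h36 chk36
  rw [len36] at h37
  have h38 := checkSteps_sound F 7 16777216 γ' hinv q0 words hOK steps37 74000 24794 25377 h37 chk37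
  rw [len37] at h38
  have h39 := checkSteps_sound F 7 16777216 γ' hinv q0 words hOK steps38 76000 25377 25963 h38 chk38
  rw [len38] at h39
  have h40 := checkSteps_sound F 7 16777216 γ' hinv q0 words hOK steps39 78000 25963 26618 h39 chk39
  rw [len39] at h40
  have h41 := checkSteps_sound F 7 16777216 γ' hinv q0 words hOK steps40 80000 26618 27200 h40 chk40
  rw [len40] at h41
  have h42 := checkSteps_sound F 7 16777216 γ' hinv q0 words hOK steps41 82000 27200 27789 h41 chk41
  rw [len41] at h42
  have h43 := checkSteps_sound F 7 16777216 γ' hinv q0 words hOK steps42 84000 27789 28386 h42 chk42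
  rw [len42] at h43
  have h44 := checkSteps_sound F 7 16777216 γ' hinv q0 words hOK steps43 86000 28386 28964 h43 chk43
  rw [len43] at h44
  have h45 := checkSteps_sound F 7 16777216 γ' hinv q0 words hOK steps44 88000 28964 29509 h44 chk44
  rw [len44] at h45
  have h46 := checkSteps_sound F 7 16777216 γ' hinv q0 words hOK steps45 90000 29509 30069 h45 chk45
  rw [len45] at h46
  have h47 := checkSteps_sound F 7 16777216 γ' hinv q0 words hOK steps46 92000 30069 30670 h46 chk46
  rw [len46] at h47
  have h48 := checkSteps_sound F 7 16777216 γ' hinv q0 words hOK steps47 94000 30670 31233 h47 chk47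
  rw [len47] at h48
  have h49 := checkSteps_sound F 7 16777216 γ' hinv q0 words hOK steps48 96000 31233 31801 h48 chk48
  rw [len48] at h49
  have h50 := checkSteps_sound F 7 16777216 γ' hinv q0 words hOK steps49 98000 31801 32359 h49 chk49
  rw [len49] at h50
  have h51 := checkSteps_sound F 7 16777216 γ' hinv q0 words hOK steps50 100000 32359 32921 h50 chk50
  rw [len50] at h51
  have h52 := checkSteps_sound F 7 16777216 γ' hinv q0 words hOK steps51 102000 32921 33457 h51 chk51
  rw [len51] at h52
  have h53 := checkSteps_sound F 7 16777216 γ' hinv q0 words hOK steps52 104000 33457 33983 h52 chk52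
  rw [len52] at h53
  have h54 := checkSteps_sound F 7 16777216 γ' hinv q0 words hOK steps53 106000 33983 34480 h53 chk53
  rw [len53] at h54
  have h55 := checkSteps_sound F 7 16777216 γ' hinv q0 words hOK steps54 108000 34480 35005 h54 chk54
  rw [len54] at h55
  have h56 := checkSteps_sound F 7 16777216 γ' hinv q0 words hOK steps55 110000 35005 35534 h55 chk55
  rw [len55] at h56
  have h57 := checkSteps_sound F 7 16777216 γ' hinv q0 words hOK steps56 112000 35534 36059 h56 chk56
  rw [len56] at h57
  have h58 := checkSteps_sound F 7 16777216 γ' hinv q0 words hOK steps57 114000 36059 36552 h57 chk57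
  rw [len57] at h58
  have h59 := checkSteps_sound F 7 16777216 γ' hinv q0 words hOK steps58 116000 36552 37090 h58 chk58
  rw [len58] at h59
  have h60 := checkSteps_sound F 7 16777216 γ' hinv q0 words hOK steps59 118000 37090 37622 h59 chk59
  rw [len59] at h60
  have h61 := checkSteps_sound F 7 16777216 γ' hinv q0 words hOK steps60 120000 37622 38144 h60 chk60
  rw [len60] at h61
  have h62 := checkSteps_sound F 7 16777216 γ' hinv q0 words hOK steps61 122000 38144 38618 h61 chk61
  rw [len61] at h62
  have h63 := checkSteps_sound F 7 16777216 γ' hinv q0 words hOK steps62 124000 38618 39077 h62 chk62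
  rw [len62] at h63
  have h64 := checkSteps_sound F 7 16777216 γ' hinv q0 words hOK steps63 126000 39077 39545 h63 chk63
  rw [len63] at h64
  have h65 := checkSteps_sound F 7 16777216 γ' hinv q0 words hOK steps64 128000 39545 40027 h64 chk64
  rw [len64] at h65
  have h66 := checkSteps_sound F 7 16777216 γ' hinv q0 words hOK steps65 130000 40027 40509 h65 chk65
  rw [len65] at h66
  have h67 := checkSteps_sound F 7 16777216 γ' hinv q0 words hOK steps66 132000 40509 41005 h66 chk66
  rw [len66] at h67
  have h68 := checkSteps_sound F 7 16777216 γ' hinv q0 words hOK steps67 134000 41005 41497 h67 chk67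
  rw [len67] at h68
  have h69 := checkSteps_sound F 7 16777216 γ' hinv q0 words hOK steps68 136000 41497 41969 h68 chk68
  rw [len68] at h69
  have h70 := checkSteps_sound F 7 16777216 γ' hinv q0 words hOK steps69 138000 41969 42439 h69 chk69
  rw [len69] at h70
  have h71 := checkSteps_sound F 7 16777216 γ' hinv q0 words hOK steps70 140000 42439 42904 h70 chk70
  rw [len70] at h71
  have h72 := checkSteps_sound F 7 16777216 γ' hinv q0 words hOK steps71 142000 42904 43350 h71 chk71
  rw [len71] at h72
  have h73 := checkSteps_sound F 7 16777216 γ' hinv q0 words hOK steps72 144000 43350 43798 h72 chk72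
  rw [len72] at h73
  have h74 := checkSteps_sound F 7 16777216 γ' hinv q0 words hOK steps73 146000 43798 44247 h73 chk73
  rw [len73] at h74
  have h75 := checkSteps_sound F 7 16777216 γ' hinv q0 words hOK steps74 148000 44247 44679 h74 chk74
  rw [len74] at h75
  have h76 := checkSteps_sound F 7 16777216 γ' hinv q0 words hOK steps75 150000 44679 45137 h75 chk75
  rw [len75] at h76
  have h77 := checkSteps_sound F 7 16777216 γ' hinv q0 words hOK steps76 152000 45137 45597 h76 chk76
  rw [len76] at h77
  have h78 := checkSteps_sound F 7 16777216 γ' hinv q0 words hOK steps77 154000 45597 46046 h77 chk77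
  rw [len77] at h78
  have h79 := checkSteps_sound F 7 16777216 γ' hinv q0 words hOK steps78 156000 46046 46467 h78 chk78
  rw [len78] at h79
  have h80 := checkSteps_sound F 7 16777216 γ' hinv q0 words hOK steps79 158000 46467 46904 h79 chk79
  rw [len79] at h80
  have h81 := checkSteps_sound F 7 16777216 γ' hinv q0 words hOK steps80 160000 46904 47320 h80 chk80
  rw [len80] at h81
  have h82 := checkSteps_sound F 7 16777216 γ' hinv q0 words hOK steps81 162000 47320 47752 h81 chk81
  rw [len81] at h82
  have h83 := checkSteps_sound F 7 16777216 γ' hinv q0 words hOK steps82 164000 47752 48154 h82 chk82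
  rw [len82] at h83
  have h84 := checkSteps_sound F 7 16777216 γ' hinv q0 words hOK steps83 166000 48154 48592 h83 chk83
  rw [len83] at h84
  have h85 := checkSteps_sound F 7 16777216 γ' hinv q0 words hOK steps84 168000 48592 48998 h84 chk84
  rw [len84] at h85
  have h86 := checkSteps_sound F 7 16777216 γ' hinv q0 words hOK steps85 170000 48998 49405 h85 chk85
  rw [len85] at h86
  have h87 := checkSteps_sound F 7 16777216 γ' hinv q0 words hOK steps86 172000 49405 49821 h86 chk86
  rw [len86] at h87
  have h88 := checkSteps_sound F 7 16777216 γ' hinv q0 words hOK steps87 174000 49821 50247 h87 chk87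
  rw [len87] at h88
  have h89 := checkSteps_sound F 7 16777216 γ' hinv q0 words hOK steps88 176000 50247 50459 h88 chk88
  rw [len88] at h89
  have := card_le F 7 16777216 γ' hinv q0 177829 50459 h89 rows mask mask_ok mask_zero rows_ok hgen
  rw [rows_length] at this
  exact this

/-- the relative index of the subgroup on the first 6 letters in that on the first 7 -/
theorem level : (K γo 6).relIndex (K γo 7) ≠ 0 ∧ (K γo 6).relIndex (K γo 7) ≤ 49980 := by
  apply SubChain.level γo γo_mul_self words 7 6 49980 bound
  intro v hv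
  obtain ⟨h1, h2, h3⟩ := words_spec v hv
  refine ⟨h1, fun hr => rel_trivial v.1 (h2 hr), fun hr => ?_⟩
  obtain ⟨x, hx, hvx⟩ := h3 hr
  rw [hvx]
  simpa using mem_K γo hx

end Cfsg.Agent.Lib.H17.HeOrd.Lv7
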